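import Mathlib.RingTheory.AlgebraicIndependent.Adjoin
import Mathlib.RingTheory.AlgebraicIndependent.TranscendenceBasis
import Mathlib.RingTheory.DedekindDomain.IntegralClosure
import Mathlib.FieldTheory.Minpoly.IsIntegrallyClosed
import Mathlib.FieldTheory.PrimitiveElement
import Mathlib.RingTheory.AdjoinRoot
import Mathlib.FieldTheory.IntermediateField.Adjoin.Algebra
import Mathlib.RingTheory.Polynomial.UniqueFactorization

/-!
A separably generated finitely generated field extension is the fraction field of a monic separable
hypersurface over a polynomial ring.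
-/

set_option autoImplicit false
set_option linter.style.haveILetI false
universe u

open Polynomial
open scoped nonZeroDivisors

namespace Groth.L22.Birat

theorem exists_hypersurface (k L : Type u) [Field k] [Field L] [Algebra k L] [Algebra.EssFiniteType k L]
    (d : ℕ) (s : Fin d → L) (hs : IsTranscendenceBasis k s)
    (hsep : Algebra.IsSeparable ↥(IntermediateField.adjoin k (Set.range s)) L) :
    ∃ g : (MvPolynomial (Fin d) k)[X], g.Monic ∧
      Irreducible (g.map (algebraMap (MvPolynomial (Fin d) k) (FractionRing (MvPolynomial (Fin d) k)))) ∧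
      (g.map (algebraMap (MvPolynomial (Fin d) k) (FractionRing (MvPolynomial (Fin d) k)))).Separable ∧
      IsDomain (AdjoinRoot g) ∧
      ∃ φ : AdjoinRoot g →ₐ[k] L, @IsFractionRing (AdjoinRoot g) _ L _ φ.toRingHom.toAlgebra := by
  classical
  let A := MvPolynomial (Fin d) k
  let F := FractionRing A
  let ι := (hs.1.aevalEquivField : F ≃ₐ[k] ↥(IntermediateField.adjoin k (Set.range s)))
  letI aF : Algebra F L := ((algebraMap ↥(IntermediateField.adjoin k (Set.range s)) L).comp ι.toRingHom).toAlgebra
  letI aA : Algebra A L := ((algebraMap F L).comp (algebraMap A F)).toAlgebra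
  haveI : IsScalarTower A F L := IsScalarTower.of_algebraMap_eq' rfl
  haveI : IsScalarTower k F L := IsScalarTower.of_algebraMap_eq fun c => by
    show algebraMap k L c = algebraMap ↥(IntermediateField.adjoin k (Set.range s)) L (ι (algebraMap k F c))
    rw [ι.commutes, ← IsScalarTower.algebraMap_apply]
  haveI : IsScalarTower k A L := IsScalarTower.of_algebraMap_eq fun c => by
    show algebraMap k L c = algebraMap F L (algebraMap A F (algebraMap k A c))
    rw [← IsScalarTower.algebraMap_apply k A F, ← IsScalarTower.algebraMap_apply k F L]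
  haveI : FaithfulSMul A L := (faithfulSMul_iff_algebraMap_injective A L).2
    ((algebraMap F L).injective.comp (IsFractionRing.injective A F))
  haveI hsepF : Algebra.IsSeparable F L :=
    Algebra.IsSeparable.of_equiv_equiv (A₁ := ↥(IntermediateField.adjoin k (Set.range s))) (B₁ := L)
      ι.symm.toRingEquiv (RingEquiv.refl L) (by
        ext x
        show algebraMap ↥(IntermediateField.adjoin k (Set.range s)) L (ι (ι.symm x)) = _
        rw [ι.apply_symm_apply]
        rfl)
  haveI : Algebra.EssFiniteType F L := Algebra.EssFiniteType.of_comp k F L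
  haveI : Module.Finite F L := Algebra.finite_of_essFiniteType_of_isAlgebraic
  obtain ⟨θ, hθ⟩ := Field.exists_primitive_element F L
  obtain ⟨y, hy, hint⟩ := exists_integral_multiples A F ({θ} : Finset L)
  let t := y • θ
  have ht : IsIntegral A t := hint θ (Finset.mem_singleton_self θ)
  have htop : IntermediateField.adjoin F {t} = ⊤ := by
    have hyF : algebraMap A F y ≠ 0 := fun h => hy (IsFractionRing.injective A F (h.trans (map_zero _).symm))
    have hte : t = algebraMap F L (algebraMap A F y) * θ := by
      show y • θ = _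
      rw [Algebra.smul_def]
      rfl
    refine eq_top_iff.2 (hθ.ge.trans ?_)
    rw [IntermediateField.adjoin_simple_le_iff]
    have hθ' : θ = algebraMap F L (algebraMap A F y)⁻¹ * t := by
      rw [hte, ← mul_assoc, ← map_mul, inv_mul_cancel₀ hyF, map_one, one_mul]
    rw [hθ']
    exact mul_mem (IntermediateField.algebraMap_mem _ _) (IntermediateField.mem_adjoin_simple_self F t)
  let g := minpoly A t
  have hgF : g.map (algebraMap A F) = minpoly F t :=
    (minpoly.isIntegrallyClosed_eq_field_fractions' F ht).symm
  have htF : IsIntegral F t := ht.tower_top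
  refine ⟨g, minpoly.monic ht, ?_, ?_, ?_⟩
  · show Irreducible (g.map (algebraMap A F))
    rw [hgF]; exact minpoly.irreducible htF
  · show (g.map (algebraMap A F)).Separable
    rw [hgF]; exact Algebra.IsSeparable.isSeparable F t
  let ψ : AdjoinRoot g →ₐ[A] L := AdjoinRoot.liftAlgHom g (Algebra.ofId A L) t (minpoly.aeval A t)
  have hψmk : ∀ p : A[X], ψ (AdjoinRoot.mk g p) = aeval t p := fun p => by
    simp [ψ, aeval_def]
  have hψ : Function.Injective ψ := by
    rw [injective_iff_map_eq_zero]
    intro z hz
    obtain ⟨p, rfl⟩ := AdjoinRoot.mk_surjective z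
    rw [hψmk] at hz
    exact AdjoinRoot.mk_eq_zero.2 (minpoly.isIntegrallyClosed_dvd ht hz)
  haveI : IsDomain (AdjoinRoot g) := hψ.isDomain ψ.toRingHom
  let φ : AdjoinRoot g →ₐ[k] L := ψ.restrictScalars k
  refine ⟨inferInstance, φ, ?_⟩
  letI : Algebra (AdjoinRoot g) L := φ.toRingHom.toAlgebra
  haveI : FaithfulSMul (AdjoinRoot g) L := (faithfulSMul_iff_algebraMap_injective _ _).2 hψ
  refine IsFractionRing.of_field _ _ fun z => ?_
  have hz : z ∈ Algebra.adjoin F {t} := by
    rw [← IntermediateField.adjoin_simple_toSubalgebra_of_isAlgebraic htF.isAlgebraic, htop]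
    trivial
  rw [Algebra.adjoin_singleton_eq_range_aeval] at hz
  obtain ⟨p, rfl⟩ := hz
  obtain ⟨⟨b, hb⟩, hbp⟩ := IsLocalization.integerNormalization_map_to_map A⁰ p
  refine ⟨AdjoinRoot.mk g (IsLocalization.integerNormalization A⁰ p), algebraMap A (AdjoinRoot g) b, ?_⟩
  have hb0 : algebraMap A L b ≠ 0 := by
    show algebraMap F L (algebraMap A F b) ≠ 0
    simpa using nonZeroDivisors.ne_zero hb
  show aeval t p = ψ (AdjoinRoot.mk g _) / ψ (algebraMap A (AdjoinRoot g) b)
  rw [ψ.commutes, hψmk, eq_div_iff hb0, ← aeval_map_algebraMap F t (IsLocalization.integerNormalization A⁰ p),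
    hbp]
  rw [mul_comm]
  simp [Algebra.smul_def, Polynomial.algebraMap_apply, map_mul]
  left
  rfl

end Groth.L22.Birat
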