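import Groth.Agent.L19.BiratStalk
import Mathlib.AlgebraicGeometry.SpreadingOut
import Mathlib.AlgebraicGeometry.FunctionField

/-!
An isomorphism of function fields over the base spreads out to an isomorphism of open subschemes.
-/

set_option autoImplicit false
universe u

open CategoryTheory AlgebraicGeometry

namespace Groth.L22.Birat

theorem exists_iso_opens {X Y S : Scheme.{u}} [IsIntegral X] [IsIntegral Y] (sX : X ⟶ S) (sY : Y ⟶ S)
    [LocallyOfFiniteType sX] [LocallyOfFiniteType sY] (e : X.functionField ≅ Y.functionField)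
    (h : Spec.map e.inv ≫ Y.fromSpecStalk (genericPoint Y) ≫ sY = X.fromSpecStalk (genericPoint X) ≫ sX) :
    ∃ (U : X.Opens) (V : Y.Opens) (i : (U : Scheme.{u}) ≅ (V : Scheme.{u})),
      genericPoint X ∈ U ∧ genericPoint Y ∈ V ∧ i.hom ≫ V.ι ≫ sY = U.ι ≫ sX := by
  have h1 : (Spec.map e.inv ≫ Y.fromSpecStalk (genericPoint Y)) ≫ sY = X.fromSpecStalk (genericPoint X) ≫ sX := by
    rw [Category.assoc, h]
  have h2 : (Spec.map e.hom ≫ X.fromSpecStalk (genericPoint X)) ≫ sX = Y.fromSpecStalk (genericPoint Y) ≫ sY := by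
    rw [Category.assoc, ← h, ← Spec.map_comp_assoc, Iso.inv_hom_id, Spec.map_id, Category.id_comp]
  obtain ⟨U, hxU, f, hf, hfS⟩ := spread_out_of_isGermInjective' sX sY _ h1
  obtain ⟨V, hyV, g, hg, hgS⟩ := spread_out_of_isGermInjective' sY sX _ h2
  exact Groth.L19.BiratStalk.exists_iso_nhds sX sY e hxU f hf.symm hfS hyV g hg.symm hgS

end Groth.L22.Birat
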